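import Cfsg.Agent.Lib.H17.Fi23Ord.Order
import Cfsg.Agent.Lib.H17.Fi23Fi22.Lower
import Cfsg.Agent.Lib.H17.OutTools

set_option autoImplicit false
set_option maxRecDepth 100000

/-! # The presented group Fi23 acting on 31671 points: generators and their tables -/

namespace Cfsg.Agent.Lib.H17.Fi23Out

open Cfsg.Spor Cfsg.Agent.Lib.H17.CosetCert Cfsg.Agent.Lib.H17.CoxGlue Cfsg.Agent.Lib.H17.Fi23Glue
  Cfsg.Agent.Lib.H17.Fi23Fi22 Cfsg.Agent.Lib.H17.Sgs Cfsg.Agent.Lib.H17.Sift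
  Cfsg.Agent.Lib.H17.PermActs

theorem finite_G : Finite G := Cfsg.Agent.Lib.H17.Fi23Ord.finite_G

attribute [local instance] finite_G

theorem card_G : Nat.card G = 4089470473293004800 := Cfsg.Agent.Lib.H17.Fi23Ord.card_eq

theorem tabs_repG : ∀ t ∈ tabs, ∃ g : G, φ g = σ 15 32768 31671 t := by
  intro t ht
  obtain ⟨k, hk, rfl⟩ := List.getElem_of_mem ht
  have hk' : k < 10 := hk
  interval_cases k
  · exact ⟨PresentedGroup.of .a, φ_of _⟩
  · exact ⟨PresentedGroup.of .b, φ_of _⟩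
  · exact ⟨PresentedGroup.of .c, φ_of _⟩
  · exact ⟨PresentedGroup.of .d, φ_of _⟩
  · exact ⟨PresentedGroup.of .e, φ_of _⟩
  · exact ⟨PresentedGroup.of .f, φ_of _⟩
  · exact ⟨PresentedGroup.of .g, φ_of _⟩
  · exact ⟨PresentedGroup.of .j, φ_of _⟩
  · exact ⟨PresentedGroup.of .h, φ_of _⟩
  · exact ⟨PresentedGroup.of .i, φ_of _⟩

/-- the generators by index -/
noncomputable def gens (x : ℕ) : G := PresentedGroup.of (gen x)

/-- the tables by index -/
def tabf (x : ℕ) : ℕ := tabOf (gen x)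

theorem acts_gens (x : ℕ) : Acts φ (gens x) (lk 15 32768 (tabf x)) := by
  intro p
  unfold gens tabf
  rw [φ_of]
  exact σ_apply 15 32768 31671 _ (good_tabs _ (tabOf_mem _)) p

theorem gens_mul_self (x : ℕ) : gens x * gens x = 1 := of_mul_self _

end Cfsg.Agent.Lib.H17.Fi23Out
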