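import Cfsg.Agent.Lib.H17.Fi23Out.ChainS
import Cfsg.Agent.Lib.H17.Fi23Out.ChainD
import Cfsg.Agent.Lib.H17.Fi23Out.Tabs
import Cfsg.Agent.Lib.H17.SiftG

set_option autoImplicit false
set_option maxRecDepth 100000

/-! # Definitions for the sweeps over the points (generated) -/

namespace Cfsg.Agent.Lib.H17.Fi23Out

open Cfsg.Spor Cfsg.Agent.Lib.H17.CosetCert Cfsg.Agent.Lib.H17.CoxGlue Cfsg.Agent.Lib.H17.Fi23Glue
  Cfsg.Agent.Lib.H17.Fi23Fi22 Cfsg.Agent.Lib.H17.Sgs Cfsg.Agent.Lib.H17.Sift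
  Cfsg.Agent.Lib.H17.PermActs
  Cfsg.Agent.Lib.H17.ConjTest Cfsg.Agent.Lib.H17.OutTools Cfsg.Agent.Lib.H17.OutRigid Cfsg.Agent.Lib.H17.OutChunks Cfsg.Agent.Lib.H17.SiftG

attribute [local instance] finite_G

/-- the action of `sE` -/
abbrev aS : ℕ → ℕ := lk 15 32768 TS

/-- the action of `dE` -/
abbrev aD : ℕ → ℕ := lk 15 32768 TD

/-- the action of `c1E` -/
abbrev aC1 : ℕ → ℕ := lk 15 32768 TC1

/-- generators of the centraliser of `dE` -/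
noncomputable def vals : List G := [dE, c1E]

/-- their actions -/
def As : List (ℕ → ℕ) := [aD, aC1]

theorem hvals : List.Forall₂ (fun x A => Acts φ x A) vals As :=
  List.Forall₂.cons acts_dE (List.Forall₂.cons acts_c1E List.Forall₂.nil)

/-- words for the elements of the centraliser of `dE` -/
def CW : List (List ℕ) :=
  [[], [0, 0, 0, 0, 0, 0, 0, 0], [0, 0, 0, 0, 0, 0, 0, 0, 0, 0, 0, 0], [0, 0, 0, 0, 0, 0], [0, 0, 0, 0,
    0, 0, 0, 0, 0, 0], [0, 0, 0, 0, 0, 0, 0, 0, 0, 0, 1], [0, 0, 0, 0, 0, 0, 0, 0, 0, 0, 0, 0, 0, 0],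
    [0, 0, 0, 0, 0, 0, 0, 0, 0, 0, 0, 0, 0, 0, 1], [0, 0, 0, 0], [1], [0], [0, 0], [0, 0, 0, 0, 0, 0,
    0, 0, 0, 1], [0, 0, 0, 0, 0, 0, 0, 0, 1], [0, 0, 0, 1], [0, 0, 0], [0, 0, 0, 0, 1], [0, 0, 0, 0,
    0, 0, 0, 0, 0, 0, 0, 1], [0, 0, 1], [0, 0, 0, 0, 0, 0, 0, 0, 0, 0, 0, 0, 0, 1], [0, 1], [0, 0, 0,
    0, 0, 0, 0, 0, 0, 0, 0, 0, 1], [0, 0, 0, 0, 0, 0, 1], [0, 0, 0, 0, 0, 1], [0, 0, 0, 0, 0, 0, 0,
    0, 0, 0, 0, 0, 0, 0, 0, 1], [0, 0, 0, 0, 0, 0, 0, 0, 0, 0, 0], [0, 0, 0, 0, 0, 0, 0], [0, 0, 0,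
    0, 0, 0, 0, 0, 0, 0, 0, 0, 0], [0, 0, 0, 0, 0, 0, 0, 1], [0, 0, 0, 0, 0], [0, 0, 0, 0, 0, 0, 0,
    0, 0], [0, 0, 0, 0, 0, 0, 0, 0, 0, 0, 0, 0, 0, 0, 0]]

/-- the images of the point 0 under the elements of the centraliser -/
noncomputable def candD : List ℕ := CW.map fun w => evalA As w 0

theorem L_fun : L = lk 15 32768 := eq_lk 15 32768 L L_eq

/-- the check for the centraliser of `sE` at a point -/
noncomputable def FS (δ' : ℕ) : Bool :=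
  cond (memL (orbl aS 17 0) δ') true (Nat.beq (sift 15 32768 kLs (orbl aS kLs.length δ')) 0)

/-- the same with the two-level lookup -/
noncomputable def FSG (δ' : ℕ) : Bool :=
  cond (memL (orbl (L TS) 17 0) δ') true (Nat.beq (siftG L kLs (orbl (L TS) kLs.length δ')) 0)

theorem FSG_eq : FSG = FS := by
  funext δ'
  unfold FSG FS
  rw [L_fun, siftG_lk]

/-- the check for the centraliser of `dE` at a point -/
noncomputable def FD (δ' : ℕ) : Bool :=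
  cond (memL candD δ') true (Nat.beq (sift 15 32768 mLs (orbl aD mLs.length δ')) 0)

/-- the same with the two-level lookup -/
noncomputable def FDG (δ' : ℕ) : Bool :=
  cond (memL candD δ') true (Nat.beq (siftG L mLs (orbl (L TD) mLs.length δ')) 0)

theorem FDG_eq : FDG = FD := by
  funext δ'
  unfold FDG FD
  rw [L_fun, siftG_lk]

end Cfsg.Agent.Lib.H17.Fi23Out
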