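import Cfsg.Agent.Lib.H17.Fi23Out.Defs

set_option autoImplicit false
set_option maxRecDepth 100000

/-! # Part 0 of the sweep `FDG` (generated) -/

namespace Cfsg.Agent.Lib.H17.Fi23Out

open Cfsg.Spor Cfsg.Agent.Lib.H17.CosetCert Cfsg.Agent.Lib.H17.CoxGlue Cfsg.Agent.Lib.H17.Fi23Glue
  Cfsg.Agent.Lib.H17.Fi23Fi22 Cfsg.Agent.Lib.H17.Sgs Cfsg.Agent.Lib.H17.Sift
  Cfsg.Agent.Lib.H17.PermActs
  Cfsg.Agent.Lib.H17.ConjTest Cfsg.Agent.Lib.H17.OutTools Cfsg.Agent.Lib.H17.OutRigid Cfsg.Agent.Lib.H17.OutChunks Cfsg.Agent.Lib.H17.SiftG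

attribute [local instance] finite_G

theorem chkD_0 : allLt FDG 660 = true := by
  decide +kernel

theorem chkD_1 : allLt (fun i => FDG (Nat.add 660 i)) 660 = true := by
  decide +kernel

theorem chkD_2 : allLt (fun i => FDG (Nat.add 1320 i)) 660 = true := by
  decide +kernel

theorem chkD_3 : allLt (fun i => FDG (Nat.add 1980 i)) 660 = true := by
  decide +kernel

theorem chkD_4 : allLt (fun i => FDG (Nat.add 2640 i)) 660 = true := by
  decide +kernel

theorem chkD_5 : allLt (fun i => FDG (Nat.add 3300 i)) 660 = true := by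
  decide +kernel

end Cfsg.Agent.Lib.H17.Fi23Out
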