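import Cfsg.Agent.Lib.H17.Fi23Out.Defs

set_option autoImplicit false
set_option maxRecDepth 100000

/-! # Part 2 of the sweep `FDG` (generated) -/

namespace Cfsg.Agent.Lib.H17.Fi23Out

open Cfsg.Spor Cfsg.Agent.Lib.H17.CosetCert Cfsg.Agent.Lib.H17.CoxGlue Cfsg.Agent.Lib.H17.Fi23Glue
  Cfsg.Agent.Lib.H17.Fi23Fi22 Cfsg.Agent.Lib.H17.Sgs Cfsg.Agent.Lib.H17.Sift
  Cfsg.Agent.Lib.H17.PermActs
  Cfsg.Agent.Lib.H17.ConjTest Cfsg.Agent.Lib.H17.OutTools Cfsg.Agent.Lib.H17.OutRigid Cfsg.Agent.Lib.H17.OutChunks Cfsg.Agent.Lib.H17.SiftG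

attribute [local instance] finite_G

theorem chkD_12 : allLt (fun i => FDG (Nat.add 7920 i)) 660 = true := by
  decide +kernel

theorem chkD_13 : allLt (fun i => FDG (Nat.add 8580 i)) 660 = true := by
  decide +kernel

theorem chkD_14 : allLt (fun i => FDG (Nat.add 9240 i)) 660 = true := by
  decide +kernel

theorem chkD_15 : allLt (fun i => FDG (Nat.add 9900 i)) 660 = true := by
  decide +kernel

theorem chkD_16 : allLt (fun i => FDG (Nat.add 10560 i)) 660 = true := by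
  decide +kernel

theorem chkD_17 : allLt (fun i => FDG (Nat.add 11220 i)) 660 = true := by
  decide +kernel

end Cfsg.Agent.Lib.H17.Fi23Out
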