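import Cfsg.Agent.Lib.H17.Fi23Out.Defs

set_option autoImplicit false
set_option maxRecDepth 100000

/-! # Part 1 of the sweep `FSG` (generated) -/

namespace Cfsg.Agent.Lib.H17.Fi23Out

open Cfsg.Spor Cfsg.Agent.Lib.H17.CosetCert Cfsg.Agent.Lib.H17.CoxGlue Cfsg.Agent.Lib.H17.Fi23Glue
  Cfsg.Agent.Lib.H17.Fi23Fi22 Cfsg.Agent.Lib.H17.Sgs Cfsg.Agent.Lib.H17.Sift
  Cfsg.Agent.Lib.H17.PermActs
  Cfsg.Agent.Lib.H17.ConjTest Cfsg.Agent.Lib.H17.OutTools Cfsg.Agent.Lib.H17.OutRigid Cfsg.Agent.Lib.H17.OutChunks Cfsg.Agent.Lib.H17.SiftG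

attribute [local instance] finite_G

theorem chkS_6 : allLt (fun i => FSG (Nat.add 3960 i)) 660 = true := by
  decide +kernel

theorem chkS_7 : allLt (fun i => FSG (Nat.add 4620 i)) 660 = true := by
  decide +kernel

theorem chkS_8 : allLt (fun i => FSG (Nat.add 5280 i)) 660 = true := by
  decide +kernel

theorem chkS_9 : allLt (fun i => FSG (Nat.add 5940 i)) 660 = true := by
  decide +kernel

theorem chkS_10 : allLt (fun i => FSG (Nat.add 6600 i)) 660 = true := by
  decide +kernel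

theorem chkS_11 : allLt (fun i => FSG (Nat.add 7260 i)) 660 = true := by
  decide +kernel

end Cfsg.Agent.Lib.H17.Fi23Out
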