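import Cfsg.Agent.Lib.H17.Fi23Out.SwS0
import Cfsg.Agent.Lib.H17.Fi23Out.SwS1
import Cfsg.Agent.Lib.H17.Fi23Out.SwS2
import Cfsg.Agent.Lib.H17.Fi23Out.SwS3
import Cfsg.Agent.Lib.H17.Fi23Out.SwS4
import Cfsg.Agent.Lib.H17.Fi23Out.SwS5
import Cfsg.Agent.Lib.H17.Fi23Out.SwS6
import Cfsg.Agent.Lib.H17.Fi23Out.SwS7
import Cfsg.Agent.Lib.H17.Fi23Out.SwD0
import Cfsg.Agent.Lib.H17.Fi23Out.SwD1
import Cfsg.Agent.Lib.H17.Fi23Out.SwD2
import Cfsg.Agent.Lib.H17.Fi23Out.SwD3
import Cfsg.Agent.Lib.H17.Fi23Out.SwD4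
import Cfsg.Agent.Lib.H17.Fi23Out.SwD5
import Cfsg.Agent.Lib.H17.Fi23Out.SwD6
import Cfsg.Agent.Lib.H17.Fi23Out.SwD7

set_option autoImplicit false
set_option maxRecDepth 100000

/-! # Every automorphism of Fi23 is inner (generated) -/

namespace Cfsg.Agent.Lib.H17.Fi23Out

open Cfsg.Spor Cfsg.Agent.Lib.H17.CosetCert Cfsg.Agent.Lib.H17.CoxGlue Cfsg.Agent.Lib.H17.Fi23Glue
  Cfsg.Agent.Lib.H17.Fi23Fi22 Cfsg.Agent.Lib.H17.Sgs Cfsg.Agent.Lib.H17.Sift
  Cfsg.Agent.Lib.H17.PermActs
  Cfsg.Agent.Lib.H17.ConjTest Cfsg.Agent.Lib.H17.OutTools Cfsg.Agent.Lib.H17.OutRigid Cfsg.Agent.Lib.H17.OutChunks Cfsg.Agent.Lib.H17.SiftG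

attribute [local instance] finite_G

theorem chkS : allLt FS 31671 = true := by
  have h0 := chkS_0
  have h1 := allLt_append FSG 660 660 1320 (by norm_num) h0 chkS_1
  have h2 := allLt_append FSG 1320 660 1980 (by norm_num) h1 chkS_2
  have h3 := allLt_append FSG 1980 660 2640 (by norm_num) h2 chkS_3
  have h4 := allLt_append FSG 2640 660 3300 (by norm_num) h3 chkS_4
  have h5 := allLt_append FSG 3300 660 3960 (by norm_num) h4 chkS_5
  have h6 := allLt_append FSG 3960 660 4620 (by norm_num) h5 chkS_6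
  have h7 := allLt_append FSG 4620 660 5280 (by norm_num) h6 chkS_7
  have h8 := allLt_append FSG 5280 660 5940 (by norm_num) h7 chkS_8
  have h9 := allLt_append FSG 5940 660 6600 (by norm_num) h8 chkS_9
  have h10 := allLt_append FSG 6600 660 7260 (by norm_num) h9 chkS_10
  have h11 := allLt_append FSG 7260 660 7920 (by norm_num) h10 chkS_11
  have h12 := allLt_append FSG 7920 660 8580 (by norm_num) h11 chkS_12
  have h13 := allLt_append FSG 8580 660 9240 (by norm_num) h12 chkS_13
  have h14 := allLt_append FSG 9240 660 9900 (by norm_num) h13 chkS_14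
  have h15 := allLt_append FSG 9900 660 10560 (by norm_num) h14 chkS_15
  have h16 := allLt_append FSG 10560 660 11220 (by norm_num) h15 chkS_16
  have h17 := allLt_append FSG 11220 660 11880 (by norm_num) h16 chkS_17
  have h18 := allLt_append FSG 11880 660 12540 (by norm_num) h17 chkS_18
  have h19 := allLt_append FSG 12540 660 13200 (by norm_num) h18 chkS_19
  have h20 := allLt_append FSG 13200 660 13860 (by norm_num) h19 chkS_20
  have h21 := allLt_append FSG 13860 660 14520 (by norm_num) h20 chkS_21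
  have h22 := allLt_append FSG 14520 660 15180 (by norm_num) h21 chkS_22
  have h23 := allLt_append FSG 15180 660 15840 (by norm_num) h22 chkS_23
  have h24 := allLt_append FSG 15840 660 16500 (by norm_num) h23 chkS_24
  have h25 := allLt_append FSG 16500 660 17160 (by norm_num) h24 chkS_25
  have h26 := allLt_append FSG 17160 660 17820 (by norm_num) h25 chkS_26
  have h27 := allLt_append FSG 17820 660 18480 (by norm_num) h26 chkS_27
  have h28 := allLt_append FSG 18480 660 19140 (by norm_num) h27 chkS_28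
  have h29 := allLt_append FSG 19140 660 19800 (by norm_num) h28 chkS_29
  have h30 := allLt_append FSG 19800 660 20460 (by norm_num) h29 chkS_30
  have h31 := allLt_append FSG 20460 660 21120 (by norm_num) h30 chkS_31
  have h32 := allLt_append FSG 21120 660 21780 (by norm_num) h31 chkS_32
  have h33 := allLt_append FSG 21780 660 22440 (by norm_num) h32 chkS_33
  have h34 := allLt_append FSG 22440 660 23100 (by norm_num) h33 chkS_34
  have h35 := allLt_append FSG 23100 660 23760 (by norm_num) h34 chkS_35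
  have h36 := allLt_append FSG 23760 660 24420 (by norm_num) h35 chkS_36
  have h37 := allLt_append FSG 24420 660 25080 (by norm_num) h36 chkS_37
  have h38 := allLt_append FSG 25080 660 25740 (by norm_num) h37 chkS_38
  have h39 := allLt_append FSG 25740 660 26400 (by norm_num) h38 chkS_39
  have h40 := allLt_append FSG 26400 660 27060 (by norm_num) h39 chkS_40
  have h41 := allLt_append FSG 27060 660 27720 (by norm_num) h40 chkS_41
  have h42 := allLt_append FSG 27720 660 28380 (by norm_num) h41 chkS_42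
  have h43 := allLt_append FSG 28380 660 29040 (by norm_num) h42 chkS_43
  have h44 := allLt_append FSG 29040 660 29700 (by norm_num) h43 chkS_44
  have h45 := allLt_append FSG 29700 660 30360 (by norm_num) h44 chkS_45
  have h46 := allLt_append FSG 30360 660 31020 (by norm_num) h45 chkS_46
  have h47 := allLt_append FSG 31020 651 31671 (by norm_num) h46 chkS_47
  rw [FSG_eq] at h47
  exact h47

theorem chkD : allLt FD 31671 = true := by
  have h0 := chkD_0
  have h1 := allLt_append FDG 660 660 1320 (by norm_num) h0 chkD_1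
  have h2 := allLt_append FDG 1320 660 1980 (by norm_num) h1 chkD_2
  have h3 := allLt_append FDG 1980 660 2640 (by norm_num) h2 chkD_3
  have h4 := allLt_append FDG 2640 660 3300 (by norm_num) h3 chkD_4
  have h5 := allLt_append FDG 3300 660 3960 (by norm_num) h4 chkD_5
  have h6 := allLt_append FDG 3960 660 4620 (by norm_num) h5 chkD_6
  have h7 := allLt_append FDG 4620 660 5280 (by norm_num) h6 chkD_7
  have h8 := allLt_append FDG 5280 660 5940 (by norm_num) h7 chkD_8
  have h9 := allLt_append FDG 5940 660 6600 (by norm_num) h8 chkD_9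
  have h10 := allLt_append FDG 6600 660 7260 (by norm_num) h9 chkD_10
  have h11 := allLt_append FDG 7260 660 7920 (by norm_num) h10 chkD_11
  have h12 := allLt_append FDG 7920 660 8580 (by norm_num) h11 chkD_12
  have h13 := allLt_append FDG 8580 660 9240 (by norm_num) h12 chkD_13
  have h14 := allLt_append FDG 9240 660 9900 (by norm_num) h13 chkD_14
  have h15 := allLt_append FDG 9900 660 10560 (by norm_num) h14 chkD_15
  have h16 := allLt_append FDG 10560 660 11220 (by norm_num) h15 chkD_16
  have h17 := allLt_append FDG 11220 660 11880 (by norm_num) h16 chkD_17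
  have h18 := allLt_append FDG 11880 660 12540 (by norm_num) h17 chkD_18
  have h19 := allLt_append FDG 12540 660 13200 (by norm_num) h18 chkD_19
  have h20 := allLt_append FDG 13200 660 13860 (by norm_num) h19 chkD_20
  have h21 := allLt_append FDG 13860 660 14520 (by norm_num) h20 chkD_21
  have h22 := allLt_append FDG 14520 660 15180 (by norm_num) h21 chkD_22
  have h23 := allLt_append FDG 15180 660 15840 (by norm_num) h22 chkD_23
  have h24 := allLt_append FDG 15840 660 16500 (by norm_num) h23 chkD_24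
  have h25 := allLt_append FDG 16500 660 17160 (by norm_num) h24 chkD_25
  have h26 := allLt_append FDG 17160 660 17820 (by norm_num) h25 chkD_26
  have h27 := allLt_append FDG 17820 660 18480 (by norm_num) h26 chkD_27
  have h28 := allLt_append FDG 18480 660 19140 (by norm_num) h27 chkD_28
  have h29 := allLt_append FDG 19140 660 19800 (by norm_num) h28 chkD_29
  have h30 := allLt_append FDG 19800 660 20460 (by norm_num) h29 chkD_30
  have h31 := allLt_append FDG 20460 660 21120 (by norm_num) h30 chkD_31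
  have h32 := allLt_append FDG 21120 660 21780 (by norm_num) h31 chkD_32
  have h33 := allLt_append FDG 21780 660 22440 (by norm_num) h32 chkD_33
  have h34 := allLt_append FDG 22440 660 23100 (by norm_num) h33 chkD_34
  have h35 := allLt_append FDG 23100 660 23760 (by norm_num) h34 chkD_35
  have h36 := allLt_append FDG 23760 660 24420 (by norm_num) h35 chkD_36
  have h37 := allLt_append FDG 24420 660 25080 (by norm_num) h36 chkD_37
  have h38 := allLt_append FDG 25080 660 25740 (by norm_num) h37 chkD_38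
  have h39 := allLt_append FDG 25740 660 26400 (by norm_num) h38 chkD_39
  have h40 := allLt_append FDG 26400 660 27060 (by norm_num) h39 chkD_40
  have h41 := allLt_append FDG 27060 660 27720 (by norm_num) h40 chkD_41
  have h42 := allLt_append FDG 27720 660 28380 (by norm_num) h41 chkD_42
  have h43 := allLt_append FDG 28380 660 29040 (by norm_num) h42 chkD_43
  have h44 := allLt_append FDG 29040 660 29700 (by norm_num) h43 chkD_44
  have h45 := allLt_append FDG 29700 660 30360 (by norm_num) h44 chkD_45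
  have h46 := allLt_append FDG 30360 660 31020 (by norm_num) h45 chkD_46
  have h47 := allLt_append FDG 31020 651 31671 (by norm_num) h46 chkD_47
  rw [FDG_eq] at h47
  exact h47

/-- a base -/
def bs : List ℕ := [3860, 5774, 3486, 326, 73, 3, 2, 0]

theorem bs_base : IsBase φ bs := kisBase

theorem bs_lt : ∀ c ∈ bs, c < 31671 := by decide

theorem kbase_eq : kLs.map Lvl.b = orbl aS kLs.length 0 := by decide +kernel

theorem mbase_eq : mLs.map Lvl.b = orbl aD mLs.length 0 := by decide +kernel

theorem orblS_base : IsBase φ (orbl aS 8 0) :=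
  isBase_mono (by decide +kernel) kisBase

theorem orblD_base : IsBase φ (orbl aD 6 0) :=
  isBase_mono (by decide +kernel) misBase

theorem sE_pow : sE ^ 17 = 1 :=
  eq_of_acts bs_base bs_lt (acts_sE.pow 17) Acts.one (by decide +kernel)

theorem sE_ne : sE ≠ 1 :=
  ne_of_acts acts_sE Acts.one 0 (by decide) (by decide +kernel)

theorem order_sE : orderOf sE = 17 := by
  haveI : Fact (Nat.Prime 17) := ⟨by norm_num⟩
  exact orderOf_eq_prime sE_pow sE_ne

theorem hds : dE * sE * dE⁻¹ = sE ^ 3 := by
  rw [mul_inv_eq_iff_eq_mul]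
  exact eq_of_acts bs_base bs_lt (acts_dE.mul acts_sE) ((acts_sE.pow 3).mul acts_dE) (by decide +kernel)

/-- the centraliser of `sE` -/
theorem cent_s (x : G) (hx : x * sE = sE * x) : x ∈ Subgroup.zpowers sE := by
  have h := conj_cases 15 32768 tabs good_tabs tabs_repG kLs kchain acts_sE acts_sE 0 (by decide) kbase_eq
    (memL (orbl aS 17 0)) chkS x hx
  obtain ⟨i, -, hi⟩ := mem_orbl aS 17 0 _ (memL_sound _ _ h)
  have hxi : x = sE ^ i := by
    apply eq_of_comm_agree 8 0 (by decide) orblS_base acts_sE hx (pow_mul_comm' sE i)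
    rw [hi, (acts_sE.pow i).pt 0 (by decide)]
  rw [hxi]
  exact Subgroup.pow_mem _ (Subgroup.mem_zpowers _) i

theorem comm_vals : ∀ v ∈ vals, v * dE = dE * v := by
  intro v hv
  simp only [vals, List.mem_cons, List.not_mem_nil, or_false] at hv
  rcases hv with rfl | rfl
  · rfl
  · exact eq_of_acts bs_base bs_lt (acts_c1E.mul acts_dE) (acts_dE.mul acts_c1E) (by decide +kernel)

/-- the centraliser of `dE` -/
theorem cent_d (g : G) (hg : g * dE = dE * g) : ∃ w ∈ CW, g = evalW vals w := by
  have h := conj_cases 15 32768 tabs good_tabs tabs_repG mLs mchain acts_dE acts_dE 0 (by decide) mbase_eq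
    (memL candD) chkD g hg
  obtain ⟨w, hw, hwe⟩ := List.mem_map.mp (memL_sound _ _ h)
  refine ⟨w, hw, ?_⟩
  apply eq_of_comm_agree 6 0 (by decide) orblD_base acts_dE hg (comm_evalW vals dE comm_vals w)
  rw [← hwe, (acts_evalW vals As hvals w).pt 0 (by decide)]

/-- words of relations between `sE`, `dE`, `c1E` -/
def rU : ℕ → List ℕ
  | 0 => [2]
  | 1 => [0, 2]
  | _ => [0, 0, 2, 0, 2]

/-- the exponents of the relations -/
def rM : ℕ → ℕ
  | 0 => 2
  | 1 => 6
  | _ => 8

theorem hA3 : List.Forall₂ (fun x A => Acts φ x A) [sE, dE, c1E] [aS, aD, aC1] :=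
  List.Forall₂.cons acts_sE (List.Forall₂.cons acts_dE (List.Forall₂.cons acts_c1E List.Forall₂.nil))

theorem rel_ok : ∀ r < 3, evalW [sE, dE, c1E] (rU r) ^ (rM r) = 1 := by
  intro r hr
  apply eq_of_acts bs_base bs_lt ((acts_evalW _ _ hA3 (rU r)).pow (rM r)) Acts.one
  interval_cases r <;> decide +kernel

/-- the check of a candidate `w` for the image of `c1E` with a witness `e` -/
noncomputable def chkPair (j : ℕ) (good w : List ℕ) (e : ℕ × ℕ) : Bool :=
  cond (Nat.beq e.1 9) (decide (w = good))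
    (cond (Nat.blt e.1 3) (cond (Nat.blt e.2 31671)
      (cond (Nat.beq (iterA (evalA [iterA aS j, aD, evalA As w] (rU e.1)) (rM e.1) e.2) e.2)
        false true) false) false)

theorem pair_excl (j : ℕ) (good w : List ℕ) (e : ℕ × ℕ) (h : chkPair j good w e = true)
    (α : MulAut G) (hs : α sE = sE ^ j) (hd : α dE = dE) (ht : α c1E = evalW vals w) :
    w = good := by
  unfold chkPair at h
  cases h9 : Nat.beq e.1 9 with
  | true =>
    rw [h9] at h
    simpa using h
  | false =>
    exfalso
    rw [h9] at h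
    simp only [cond_false] at h
    cases h4 : Nat.blt e.1 3 with
    | false => rw [h4] at h; exact absurd h (by simp)
    | true =>
      rw [h4] at h
      simp only [cond_true] at h
      cases hp : Nat.blt e.2 31671 with
      | false => rw [hp] at h; exact absurd h (by simp)
      | true =>
        rw [hp] at h
        simp only [cond_true] at h
        cases hb : Nat.beq (iterA (evalA [iterA aS j, aD, evalA As w] (rU e.1)) (rM e.1) e.2) e.2 with
        | true => rw [hb] at h; exact absurd h (by simp)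
        | false =>
          have hr : e.1 < 3 := by simpa [Nat.blt_eq] using h4
          have hp' : e.2 < 31671 := by simpa [Nat.blt_eq] using hp
          have h2 := congrArg α (rel_ok e.1 hr)
          rw [map_pow, map_one, map_evalW_equiv] at h2
          simp only [List.map_cons, List.map_nil, hs, hd, ht] at h2
          exact relator_absurd (List.Forall₂.cons (acts_sE.pow j) (List.Forall₂.cons acts_dE
            (List.Forall₂.cons (acts_evalW vals As hvals w) List.Forall₂.nil))) (rU e.1) (rM e.1) e.2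
            hp' h2 hb

/-- the witnesses for the exponent 1 -/
def WT1 : List (ℕ × ℕ) :=
  [(1, 0), (2, 0), (0, 0), (0, 0), (0, 0), (0, 0), (0, 0), (0, 0), (0, 0), (9, 0), (0, 0), (0, 0), (0,
    0), (1, 0), (0, 0), (0, 0), (0, 0), (0, 0), (0, 0), (0, 0), (0, 0), (0, 0), (0, 0), (0, 0), (0,
    0), (0, 0), (0, 0), (0, 0), (0, 0), (0, 0), (0, 0), (0, 0)]

theorem chkP1 : chkAll (chkPair 1 [1]) CW WT1 = true := by
  decide +kernel

theorem hex : ∀ j ∈ [1], ∀ α : MulAut G, α sE = sE ^ j → α dE = dE → α sE = sE ∧ α c1E = c1E := by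
  intro j hj α hs hd
  have hcomm : α c1E * dE = dE * α c1E := by
    have := congrArg α (comm_vals c1E (by simp [vals]))
    rwa [map_mul, map_mul, hd] at this
  obtain ⟨w, hw, hwe⟩ := cent_d _ hcomm
  simp only [List.mem_cons, List.not_mem_nil, or_false] at hj
  subst hj
  obtain ⟨e, he⟩ := chkAll_sound _ CW WT1 chkP1 w hw
  have hw3 := pair_excl 1 [1] w e he α hs hd hwe
  refine ⟨by rw [hs, pow_one], ?_⟩
  rw [hwe, hw3]
  simp [evalW, vals]

/-- words in `sE`, `dE`, `c1E` conjugating a fixed transposition to the generators -/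
def HW : ℕ → List ℕ
  | 0 =>
    [0, 1, 0, 2, 0, 1, 1, 0, 2, 0, 0, 0, 2, 0, 1]
  | 1 =>
    [0, 2, 0, 0, 2, 1, 1, 1, 0, 2, 1, 0]
  | 2 =>
    [1, 0, 2, 0, 2, 0, 2, 0, 1, 0]
  | 3 =>
    [0, 0, 1, 0, 2, 1, 1, 0, 2, 1, 0]
  | 4 =>
    [2, 0, 0, 2, 1, 1, 1, 0, 2, 1, 0]
  | 5 =>
    [0, 1, 1, 0, 2, 0, 0, 0, 2, 0, 0, 1]
  | 6 =>
    [0, 2, 0, 1, 0, 2, 1, 1, 0, 2, 1, 0]
  | 7 =>
    [0, 2, 1, 1, 0, 2, 0, 0, 2, 0, 2, 1, 0, 1]
  | 8 =>
    [0, 0, 2, 0, 2, 0, 1, 0, 0, 0, 0, 2, 0]
  | _ =>
    [2, 0, 0, 2, 1, 0, 2, 0, 2, 1]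

/-- a word in `sE`, `dE`, `c1E` whose power with exponent 9 is a transposition -/
def U0 : List ℕ := [0, 1, 0, 2, 0, 2]

theorem gen_conj : ∀ x < 10, gens x * evalW [sE, dE, c1E] (HW x) =
    evalW [sE, dE, c1E] (HW x) * evalW [sE, dE, c1E] U0 ^ 9 := by
  intro x hx
  apply eq_of_acts bs_base bs_lt ((acts_gens x).mul (acts_evalW _ _ hA3 (HW x)))
    ((acts_evalW _ _ hA3 (HW x)).mul ((acts_evalW _ _ hA3 U0).pow 9))
  interval_cases x <;> decide +kernel

theorem hgen : ∀ ψ : MulAut G, ψ sE = sE → ψ dE = dE → ψ c1E = c1E → ψ = 1 := by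
  intro ψ h1 h2 h3
  have hfix : ∀ w, ψ (evalW [sE, dE, c1E] w) = evalW [sE, dE, c1E] w := by
    intro w
    rw [map_evalW_equiv]
    simp only [List.map_cons, List.map_nil, h1, h2, h3]
  apply aut_eq_one_of_closure _ closure_gens
  rintro _ ⟨x, hx, rfl⟩
  have hc := gen_conj x hx
  have hg : gens x = evalW [sE, dE, c1E] (HW x) * evalW [sE, dE, c1E] U0 ^ 9 *
      (evalW [sE, dE, c1E] (HW x))⁻¹ := eq_mul_inv_of_mul_eq hc
  change ψ (gens x) = gens x
  rw [hg, map_mul, map_mul, map_inv, map_pow, hfix, hfix]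

theorem hJ : ∀ i, 0 < i → i < 17 → ∃ j ∈ [1], ∃ l, (i * 3 ^ l) % 17 = j % 17 := by
  intro i h0 h1
  interval_cases i
  · exact ⟨1, by decide, 0, by decide⟩
  · exact ⟨1, by decide, 2, by decide⟩
  · exact ⟨1, by decide, 15, by decide⟩
  · exact ⟨1, by decide, 4, by decide⟩
  · exact ⟨1, by decide, 11, by decide⟩
  · exact ⟨1, by decide, 1, by decide⟩
  · exact ⟨1, by decide, 5, by decide⟩
  · exact ⟨1, by decide, 6, by decide⟩
  · exact ⟨1, by decide, 14, by decide⟩
  · exact ⟨1, by decide, 13, by decide⟩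
  · exact ⟨1, by decide, 9, by decide⟩
  · exact ⟨1, by decide, 3, by decide⟩
  · exact ⟨1, by decide, 12, by decide⟩
  · exact ⟨1, by decide, 7, by decide⟩
  · exact ⟨1, by decide, 10, by decide⟩
  · exact ⟨1, by decide, 8, by decide⟩

/-- every automorphism is inner -/
theorem card_out : Nat.card (MulAut G ⧸ (MulAut.conj : G →* MulAut G).range) = 1 :=
  card_out_eq_one (p := 17) (a := 3) (c := 9) (by norm_num) (by rw [card_G]; decide) sE dE c1E
    order_sE hds cent_s (by decide) [1] hJ hgen hex

end Cfsg.Agent.Lib.H17.Fi23Out
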